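import Groth.Agent.TorBalance.LESFlip
import Groth.Agent.Goren.Artin
import Groth.Agent.Goren.Basic
import Groth.Agent.Goren.Flat
import Groth.Agent.InjHull.Duality
import Groth.Agent.InjHull.Matlis

/-!
`Tor` of the residue field against the injective hull over a Gorenstein local ring.
-/

set_option autoImplicit false
set_option linter.style.haveILetI false
set_option backward.isDefEq.respectTransparency false

universe u

open CategoryTheory IsLocalRing RingTheory.Sequence
open scoped Pointwise

noncomputable section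

namespace Groth.Agent.GorTor

variable {A : Type u} [CommRing A] [IsLocalRing A]

/-- `Tor_i(X, κ)` as a functor of `X`. -/
abbrev T (A : Type u) [CommRing A] [IsLocalRing A] (i : ℕ) : ModuleCat.{u} A ⥤ ModuleCat.{u} A :=
  (Tor (ModuleCat.{u} A) i).flip.obj (ModuleCat.of A (ResidueField A))

theorem T_map_eq_zero (i : ℕ) {x : A} (hx : x ∈ maximalIdeal A) (X : ModuleCat.{u} A) :
    (T A i).map (x • 𝟙 X) = 0 := by
  rw [TorBalance.tor_map_smul, CategoryTheory.Functor.map_id]
  exact TorBalance.smul_id_eq_zero x X _ (fun y => by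
    show x • (y : ResidueField A) = 0
    rw [Algebra.smul_def, show algebraMap A (ResidueField A) x = residue A x from rfl,
      (residue_eq_zero_iff x).2 hx, zero_mul]) i

theorem exists_ses (i : ℕ) {S : ShortComplex (ModuleCat.{u} A)} (hS : S.ShortExact) :
    (∃ w₀, (ShortComplex.mk ((T A i).map S.f) ((T A i).map S.g) w₀).Exact) ∧
      ∃ (δ : (T A (i + 1)).obj S.X₃ ⟶ (T A i).obj S.X₁) (w₁ : (T A (i + 1)).map S.g ≫ δ = 0)
        (w₂ : δ ≫ (T A i).map S.f = 0),
        (ShortComplex.mk ((T A (i + 1)).map S.g) δ w₁).Exact ∧ (ShortComplex.mk δ ((T A i).map S.f) w₂).Exact :=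
  TorBalance.exists_les_flip hS _ i

theorem length_eq_of_exact {S : ShortComplex (ModuleCat.{u} A)} (h : S.Exact) (hf : Mono S.f) (hg : Epi S.g) :
    Module.length A S.X₂ = Module.length A S.X₁ + Module.length A S.X₃ :=
  Module.length_eq_add_of_exact S.f.hom S.g.hom ((ModuleCat.mono_iff_injective _).1 hf)
    ((ModuleCat.epi_iff_surjective _).1 hg) ((ShortComplex.ShortExact.moduleCat_exact_iff_function_exact _).1 h)

theorem epi_T_zero {X Y : ModuleCat.{u} A} (g : X ⟶ Y) (hg : Function.Surjective g) :
    Epi ((T A 0).map g) := by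
  let N := ModuleCat.of A (ResidueField A)
  let Q := projectiveResolution N
  let φ := (TorBalance.cxL Q.complex).map g
  have h0 : Epi (φ.f 0) :=
    (ModuleCat.epi_iff_surjective _).2 (LinearMap.rTensor_surjective (Q.complex.X 0) hg)
  haveI := h0
  haveI : IsIso (((TorBalance.cxL Q.complex).obj Y).iCycles 0) :=
    HomologicalComplex.isIso_iCycles _ _ _ rfl (by rw [HomologicalComplex.shape]; simp)
  haveI : IsIso (((TorBalance.cxL Q.complex).obj X).iCycles 0) :=
    HomologicalComplex.isIso_iCycles _ _ _ rfl (by rw [HomologicalComplex.shape]; simp)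
  haveI : Epi (HomologicalComplex.cyclesMap φ 0) := by
    rw [← (asIso (((TorBalance.cxL Q.complex).obj X).iCycles 0)).hom_inv_id_assoc (HomologicalComplex.cyclesMap φ 0)]
    have e : (asIso (((TorBalance.cxL Q.complex).obj X).iCycles 0)).inv ≫ HomologicalComplex.cyclesMap φ 0 =
        φ.f 0 ≫ inv (((TorBalance.cxL Q.complex).obj Y).iCycles 0) := by
      rw [IsIso.eq_comp_inv, Category.assoc, HomologicalComplex.cyclesMap_i, asIso_inv, IsIso.inv_hom_id_assoc]
    rw [e]
    infer_instance
  haveI : Epi (HomologicalComplex.homologyMap φ 0) := by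
    have := epi_comp (HomologicalComplex.cyclesMap φ 0) (((TorBalance.cxL Q.complex).obj Y).homologyπ 0)
    rw [← HomologicalComplex.homologyπ_naturality] at this
    exact epi_of_epi (((TorBalance.cxL Q.complex).obj X).homologyπ 0) _
  rw [← NatIso.naturality_2 (TorBalance.flipIso Q 0) g]
  haveI : Epi ((TorBalance.cxL Q.complex ⋙ HomologicalComplex.homologyFunctor (ModuleCat.{u} A) (ComplexShape.down ℕ) 0).map g) :=
    inferInstanceAs (Epi (HomologicalComplex.homologyMap φ 0))
  exact epi_comp' inferInstance (epi_comp' inferInstance inferInstance)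

section SES

variable {M' M M'' : Type u} [AddCommGroup M'] [Module A M'] [AddCommGroup M] [Module A M] [AddCommGroup M'']
  [Module A M''] (a : M' →ₗ[A] M) (b : M →ₗ[A] M'') (ha : Function.Injective a) (hb : Function.Surjective b)
  (hab : Function.Exact a b)

/-- Lengths of `Tor_i(-, κ)`. -/
def L (A : Type u) [CommRing A] [IsLocalRing A] (i : ℕ) (X : Type u) [AddCommGroup X] [Module A X] : ℕ∞ :=
  Module.length A ((T A i).obj (ModuleCat.of A X))

include ha hb hab in
/-- The left map is multiplication by an element of the maximal ideal. -/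
theorem L_of_left_smul {x : A} (hx : x ∈ maximalIdeal A) (φ : M' ≃ₗ[A] M) (hax : ∀ m, a m = x • φ m) (i : ℕ) :
    L A (i + 1) M'' = L A (i + 1) M + L A i M' ∧ L A 0 M'' = L A 0 M := by
  let S := ShortComplex.moduleCatMk a b hab.linearMap_comp_eq_zero
  have hS : S.ShortExact := ModuleCat.shortComplex_shortExact S hab ha hb
  have h0 : ∀ j, (T A j).map S.f = 0 := fun j => by
    have e : S.f = ModuleCat.ofHom φ.toLinearMap ≫ (x • 𝟙 (ModuleCat.of A M)) := by
      ext m
      exact hax m
    rw [e, Functor.map_comp, T_map_eq_zero j hx, Limits.comp_zero]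
  obtain ⟨δ, w₁, w₂, h1, h2⟩ := (exists_ses (A := A) i hS).2
  obtain ⟨w₀, h3⟩ := (exists_ses (A := A) (i + 1) hS).1
  haveI : Mono ((T A (i + 1)).map S.g) := h3.mono_g (h0 _)
  haveI : Epi δ := h2.epi_f (h0 i)
  refine ⟨length_eq_of_exact h1 inferInstance inferInstance, ?_⟩
  obtain ⟨w₀', h4⟩ := (exists_ses (A := A) 0 hS).1
  haveI : Mono ((T A 0).map S.g) := h4.mono_g (h0 0)
  have hbij : Function.Bijective ((T A 0).map S.g) :=
    ⟨(ModuleCat.mono_iff_injective _).1 inferInstance, (ModuleCat.epi_iff_surjective _).1 (epi_T_zero S.g hb)⟩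
  exact ((LinearEquiv.ofBijective ((T A 0).map S.g).hom hbij).length_eq).symm

include ha hb hab in
/-- The right map is multiplication by an element of the maximal ideal. -/
theorem L_of_right_smul {x : A} (hx : x ∈ maximalIdeal A) (φ : M ≃ₗ[A] M'') (hbx : ∀ m, b m = x • φ m) (i : ℕ) :
    L A i M' = L A (i + 1) M'' + L A i M := by
  let S := ShortComplex.moduleCatMk a b hab.linearMap_comp_eq_zero
  have hS : S.ShortExact := ModuleCat.shortComplex_shortExact S hab ha hb
  have h0 : ∀ j, (T A j).map S.g = 0 := fun j => by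
    have e : S.g = ModuleCat.ofHom φ.toLinearMap ≫ (x • 𝟙 (ModuleCat.of A M'')) := by
      ext m
      exact hbx m
    rw [e, Functor.map_comp, T_map_eq_zero j hx, Limits.comp_zero]
  obtain ⟨δ, w₁, w₂, h1, h2⟩ := (exists_ses (A := A) i hS).2
  obtain ⟨w₀, h3⟩ := (exists_ses (A := A) i hS).1
  haveI : Mono δ := h1.mono_g (h0 _)
  haveI : Epi ((T A i).map S.f) := h3.epi_f (h0 i)
  exact length_eq_of_exact h2 inferInstance inferInstance

end SES

theorem L_equiv {X Y : Type u} [AddCommGroup X] [Module A X] [AddCommGroup Y] [Module A Y] (e : X ≃ₗ[A] Y) (i : ℕ) :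
    L A i X = L A i Y :=
  ((T A i).mapIso e.toModuleIso).toLinearEquiv.length_eq

theorem L_flat (X : Type u) [AddCommGroup X] [Module A X] [Module.Flat A X] (i : ℕ) : L A (i + 1) X = 0 := by
  haveI : Subsingleton ((T A (i + 1)).obj (ModuleCat.of A X)) := ModuleCat.subsingleton_of_isZero
    (TorBalance.isZero_flat (ModuleCat.of A X) (ModuleCat.of A (ResidueField A)) i)
  exact Module.length_eq_zero

theorem L_self_zero : L A 0 A = 1 := by
  let N := ModuleCat.of A (ResidueField A)
  let e : (T A 0).obj (ModuleCat.of A A) ≅ (MonoidalCategory.tensorLeft (ModuleCat.of A A)).obj N :=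
    ((MonoidalCategory.tensoringLeft (ModuleCat.{u} A)).obj (ModuleCat.of A A)).leftDerivedZeroIsoSelf.app N
  refine (e.toLinearEquiv.trans (TensorProduct.lid A (ResidueField A))).length_eq.trans ?_
  rw [Module.length_eq_one_iff]
  exact isSimpleModule_iff_quot_maximal.2 ⟨maximalIdeal A, inferInstance, ⟨LinearEquiv.refl A _⟩⟩

/-- Binomial lengths along a weakly regular sequence. -/
theorem L_quot : ∀ (rs : List A) (X : Type u) [AddCommGroup X] [Module A X] (c : ℕ),
    (∀ r ∈ rs, r ∈ maximalIdeal A) → IsWeaklyRegular X rs → (∀ i, L A i X = (c.choose i : ℕ∞)) →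
      ∀ i, L A i (X ⧸ (Ideal.ofList rs • ⊤ : Submodule A X)) = ((c + rs.length).choose i : ℕ∞) := by
  intro rs
  induction rs with
  | nil =>
    intro X _ _ c _ _ h i
    rw [← L_equiv (Submodule.quotEquivOfEqBot _ (by simp)).symm i]
    exact h i
  | cons x rs ih =>
    intro X _ _ c hm hw h i
    rw [isWeaklyRegular_cons_iff] at hw
    have hex : Function.Exact (LinearMap.lsmul A X x) (x • (⊤ : Submodule A X)).mkQ := by
      rw [LinearMap.exact_iff, Submodule.ker_mkQ]
      ext y
      simp [Submodule.mem_smul_pointwise_iff_exists]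
    have hstep := L_of_left_smul (LinearMap.lsmul A X x) (x • (⊤ : Submodule A X)).mkQ hw.1
      (Submodule.mkQ_surjective _) hex (hm x (by simp)) (LinearEquiv.refl A X) (fun _ => rfl)
    have h' : ∀ j, L A j (QuotSMulTop x X) = ((c + 1).choose j : ℕ∞) := by
      intro j
      cases j with
      | zero => rw [show L A 0 (QuotSMulTop x X) = L A 0 X from (hstep 0).2, h 0]; simp
      | succ j =>
        rw [show L A (j + 1) (QuotSMulTop x X) = _ from (hstep j).1, h, h, Nat.choose_succ_succ, Nat.cast_add, add_comm]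
    rw [L_equiv (Submodule.quotOfListConsSMulTopEquivQuotSMulTopInner X x rs) i,
      ih (QuotSMulTop x X) (c + 1) (fun r hr => hm r (by simp [hr])) hw.2 h' i, List.length_cons,
      show c + 1 + rs.length = c + (rs.length + 1) by omega]

/-- The expected lengths for the torsion of the hull by `c` of the `d` parameters. -/
def expect (c d i : ℕ) : ℕ∞ := if d ≤ i + c then (c.choose (i + c - d) : ℕ∞) else 0

theorem expect_zero {c d i : ℕ} (hc : c ≤ d) (hi : d < i) : expect c d i = 0 := by
  rw [expect, if_pos (by omega), Nat.choose_eq_zero_of_lt (by omega)]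
  rfl

theorem expect_succ {c d i : ℕ} (hc : c + 1 ≤ d) : expect (c + 1) d i = expect c d (i + 1) + expect c d i := by
  unfold expect
  by_cases h1 : d ≤ i + c
  · rw [if_pos (by omega), if_pos (by omega), if_pos h1, show i + (c + 1) - d = (i + c - d) + 1 by omega,
      show i + 1 + c - d = (i + c - d) + 1 by omega, Nat.choose_succ_succ, Nat.cast_add, add_comm]
  · rw [if_neg h1, add_zero]
    by_cases h2 : d ≤ i + (c + 1)
    · rw [if_pos h2, if_pos (by omega), show i + (c + 1) - d = 0 by omega, show i + 1 + c - d = 0 by omega]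
      simp
    · rw [if_neg h2, if_neg (by omega)]

theorem solve {a : ℕ → ℕ∞} {c d : ℕ} (hc : c + 1 ≤ d) (h : ∀ i, expect (c + 1) d i = a (i + 1) + a i) :
    ∀ i, a i = expect c d i := by
  have hhigh : ∀ i, d < i → a i = 0 := fun i hi => by
    have := h i
    rw [expect_zero hc hi] at this
    exact (add_eq_zero.1 this.symm).2
  suffices ∀ k i, d + 1 ≤ i + k → a i = expect c d i from fun i => this (d + 1) i (by omega)
  intro k
  induction k with
  | zero => exact fun i hi => by rw [hhigh i (by omega), expect_zero (by omega) (by omega)]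
  | succ k ih =>
    intro i hi
    have h1 := h i
    rw [expect_succ hc, ih (i + 1) (by omega)] at h1
    refine (ENat.add_right_injective_of_ne_top ?_ h1.symm)
    unfold expect
    split_ifs <;> simp

theorem eq_zero_of_add_natCast {x : WithBot ℕ∞} {n : ℕ} (h : x + n = n) : x = 0 := by
  induction x using WithBot.recBotCoe with
  | bot => simp at h
  | coe x =>
    induction x using ENat.recTopCoe with
    | top => exact absurd h (by norm_cast; simp)
    | coe m => norm_cast at h ⊢; omega

section Hull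

variable [IsNoetherianRing A] {E : Type u} [AddCommGroup E] [Module A E]
  {f : (A ⧸ maximalIdeal A) →ₗ[A] E} (hf : _root_.InjHull.IsInjectiveHull f)

/-- The part of `E` killed by `J`. -/
abbrev killed (J : Ideal A) (E : Type u) [AddCommGroup E] [Module A E] : Submodule A E :=
  Submodule.torsionBySet A E (J : Set A)

include hf in
theorem exists_equiv_killed (J : Ideal A) [IsLocalRing (A ⧸ J)] (hd : ringKrullDim (A ⧸ J) = 0)
    (hs : Goren.SocSimple (A ⧸ J)) : Nonempty ((A ⧸ J) ≃ₗ[A] killed J E) := by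
  obtain ⟨s, hs0, hsm, hsoc⟩ := hs
  obtain ⟨-, ht⟩ := Goren.isFiniteLength_of_dim_zero (A ⧸ J) hd
  haveI : IsLocalHom (Ideal.Quotient.mk J) := IsLocalHom.of_surjective _ Ideal.Quotient.mk_surjective
  have hmm : (maximalIdeal A).map (Ideal.Quotient.mk J) ≤ maximalIdeal (A ⧸ J) :=
    IsLocalRing.map_maximalIdeal_le _
  have hmm' : maximalIdeal (A ⧸ J) ≤ (maximalIdeal A).map (Ideal.Quotient.mk J) := fun z hz => by
    obtain ⟨a, rfl⟩ := Ideal.Quotient.mk_surjective z
    exact Ideal.mem_map_of_mem _ (fun h => hz (h.map (Ideal.Quotient.mk J)))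
  have ht' : _root_.LocCoh.IsPowerTorsion (maximalIdeal A) (A ⧸ J) := fun z => by
    obtain ⟨n, hn⟩ := ht z
    refine ⟨n, fun a ha => ?_⟩
    have := hn _ (Ideal.pow_right_mono hmm n (Ideal.map_pow (Ideal.Quotient.mk J) _ n ▸ Ideal.mem_map_of_mem _ ha))
    rwa [smul_eq_mul, ← Ideal.Quotient.algebraMap_eq, ← Algebra.smul_def] at this
  let g : (A ⧸ maximalIdeal A) →ₗ[A] A ⧸ J :=
    (maximalIdeal A).liftQ (LinearMap.toSpanSingleton A _ s) fun a ha => by
      show a • s = 0
      rw [Algebra.smul_def, Ideal.Quotient.algebraMap_eq]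
      exact hsm _ (hmm (Ideal.mem_map_of_mem _ ha))
  have hg : Function.Injective g := by
    refine (injective_iff_map_eq_zero g).2 fun w hw => ?_
    obtain ⟨a, rfl⟩ := Submodule.Quotient.mk_surjective _ w
    have h1 : a • s = 0 := hw
    refine (Submodule.Quotient.mk_eq_zero _).2 ?_
    by_contra ha
    exact hs0 ((IsUnit.smul_eq_zero (IsLocalRing.notMem_maximalIdeal.1 ha)).1 h1)
  have hess := InjHull.isEssentialInj_of_socle_le ht' g hg fun y hy => by
    have h1 : ∀ z ∈ maximalIdeal (A ⧸ J), z * y = 0 := fun z hz => by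
      refine Submodule.span_induction (fun v hv => ?_) (zero_mul y) (fun p q _ _ hp hq => by rw [add_mul, hp, hq, add_zero])
        (fun r p _ hp => by rw [smul_eq_mul, mul_assoc, hp, mul_zero]) (hmm' hz)
      obtain ⟨a, ha, rfl⟩ := hv
      rw [← Ideal.Quotient.algebraMap_eq, ← Algebra.smul_def]
      exact hy a ha
    obtain ⟨c, hc⟩ := Ideal.mem_span_singleton'.1 (hsoc y h1)
    obtain ⟨c, rfl⟩ := Ideal.Quotient.mk_surjective c
    exact ⟨Submodule.Quotient.mk c, by rw [← hc, ← Ideal.Quotient.algebraMap_eq, ← Algebra.smul_def]; rfl⟩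
  haveI := hf.isInjective
  obtain ⟨α, hα, -⟩ := InjHull.exists_injective_extend hess f hf.injective
  let β : (A ⧸ J) →ₗ[A] killed J E := α.codRestrict _ fun z => by
    rw [Submodule.mem_torsionBySet_iff]
    rintro ⟨a, ha⟩
    show a • α z = 0
    rw [← map_smul, Algebra.smul_def, Ideal.Quotient.algebraMap_eq, Ideal.Quotient.eq_zero_iff_mem.2 ha, zero_mul, map_zero]
  have hβ : Function.Injective β := fun z w h => hα (congrArg Subtype.val h)
  obtain ⟨n, hn⟩ := ht (1 : A ⧸ J)
  have hfl : IsFiniteLength A (A ⧸ J) :=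
    InjHull.isFiniteLength_of_pow_smul_eq_zero (maximalIdeal A) n _ inferInstance fun a ha z => by
      have h1 := hn _ (Ideal.pow_right_mono hmm n (Ideal.map_pow (Ideal.Quotient.mk J) _ n ▸ Ideal.mem_map_of_mem _ ha))
      rw [smul_eq_mul, mul_one] at h1
      rw [Algebra.smul_def, Ideal.Quotient.algebraMap_eq, h1, zero_mul]
  let ev : ((A ⧸ J) →ₗ[A] E) ≃ₗ[A] killed J E :=
    { toFun := fun φ => ⟨φ 1, by
        rw [Submodule.mem_torsionBySet_iff]
        rintro ⟨a, ha⟩
        show a • φ 1 = 0
        rw [← map_smul, Algebra.smul_def, Ideal.Quotient.algebraMap_eq, Ideal.Quotient.eq_zero_iff_mem.2 ha, zero_mul, map_zero]⟩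
      map_add' := fun _ _ => rfl
      map_smul' := fun _ _ => rfl
      invFun := fun e => Submodule.liftQ J (LinearMap.toSpanSingleton A E e.1) fun a ha =>
        (Submodule.mem_torsionBySet_iff _ _).1 e.2 ⟨a, ha⟩
      left_inv := fun φ => by
        refine Submodule.linearMap_qext _ (LinearMap.ext_ring ?_)
        show (1 : A) • φ 1 = φ (Submodule.Quotient.mk 1)
        rw [one_smul]
        rfl
      right_inv := fun e => Subtype.ext (one_smul A e.1) }
  have hlen : Module.length A (killed J E) = Module.length A (A ⧸ J) :=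
    ev.length_eq.symm.trans (InjHull.length_dual hf hfl ht')
  have h2 := Module.length_eq_add_of_exact β (LinearMap.range β).mkQ hβ (Submodule.mkQ_surjective _)
    (LinearMap.exact_map_mkQ_range β)
  rw [hlen] at h2
  haveI := Module.length_eq_zero_iff.1
    (ENat.add_right_injective_of_ne_top (Module.length_ne_top_iff.2 hfl) (h2.symm.trans (add_zero _).symm))
  exact ⟨LinearEquiv.ofBijective β ⟨hβ, LinearMap.range_eq_top.1 (Submodule.Quotient.subsingleton_iff.1 inferInstance)⟩⟩

include hf in
theorem L_step (J : Ideal A) (x : A) (hx : x ∈ maximalIdeal A) (hreg : IsSMulRegular (A ⧸ J) x) (i : ℕ) :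
    L A i (killed (J ⊔ Ideal.span {x}) E) = L A (i + 1) (killed J E) + L A i (killed J E) := by
  haveI := hf.isInjective
  let a : killed (J ⊔ Ideal.span {x}) E →ₗ[A] killed J E :=
    Submodule.inclusion (Submodule.torsionBySet_le_torsionBySet_of_subset
      (SetLike.coe_subset_coe.2 le_sup_left))
  let b : killed J E →ₗ[A] killed J E := LinearMap.lsmul A _ x
  refine L_of_right_smul a b (Submodule.inclusion_injective _) ?_ ?_ hx (LinearEquiv.refl A _) (fun _ => rfl) i
  · intro e
    obtain ⟨h, hh⟩ := Module.Injective.out (R := A) (LinearMap.lsmul A (A ⧸ J) x) hreg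
      (Submodule.liftQ J (LinearMap.toSpanSingleton A E e.1) fun r hr =>
        (Submodule.mem_torsionBySet_iff _ _).1 e.2 ⟨r, hr⟩)
    refine ⟨⟨h (Submodule.Quotient.mk 1), ?_⟩, Subtype.ext ?_⟩
    · rw [Submodule.mem_torsionBySet_iff]
      rintro ⟨r, hr⟩
      show r • h _ = 0
      rw [← map_smul, ← Submodule.Quotient.mk_smul, smul_eq_mul, mul_one, (Submodule.Quotient.mk_eq_zero J).2 hr, map_zero]
    · show x • h _ = e.1
      rw [← map_smul]
      exact (hh _).trans (one_smul A e.1)
  · intro e
    constructor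
    · intro he
      refine ⟨⟨e.1, ?_⟩, rfl⟩
      rw [Submodule.mem_torsionBySet_iff]
      rintro ⟨r, hr⟩
      obtain ⟨p, hp, q, hq, rfl⟩ := Submodule.mem_sup.1 hr
      obtain ⟨c, rfl⟩ := Ideal.mem_span_singleton'.1 hq
      have h1 : p • e.1 = 0 := (Submodule.mem_torsionBySet_iff _ _).1 e.2 ⟨p, hp⟩
      have h2 : x • e.1 = 0 := congrArg Subtype.val he
      show (p + c * x) • e.1 = 0
      rw [add_smul, mul_smul, h1, h2, smul_zero, add_zero]
    · rintro ⟨w, rfl⟩
      exact Subtype.ext ((Submodule.mem_torsionBySet_iff _ _).1 w.2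
        ⟨x, Submodule.mem_sup_right (Ideal.mem_span_singleton_self x)⟩)

include hf in
theorem L_killed (rs : List A) (hm : ∀ r ∈ rs, r ∈ maximalIdeal A) (hw : IsWeaklyRegular A rs)
    (hbase : ∀ i, L A i (killed (Ideal.ofList rs) E) = expect rs.length rs.length i) :
    ∀ (k : ℕ), k ≤ rs.length → ∀ i, L A i (killed (Ideal.ofList (rs.take (rs.length - k))) E) =
      expect (rs.length - k) rs.length i := by
  intro k
  induction k with
  | zero => intro _ i; rw [Nat.sub_zero, List.take_length]; exact hbase i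
  | succ k ih =>
    intro hk i
    obtain ⟨c, hc⟩ : ∃ c, rs.length - k = c + 1 := ⟨rs.length - k - 1, by omega⟩
    rw [show rs.length - (k + 1) = c by omega]
    have hcl : c < rs.length := by omega
    have h1 := ih (by omega)
    rw [hc, List.take_succ_eq_append_getElem hcl, Ideal.ofList_append, Ideal.ofList_singleton] at h1
    have hreg : IsSMulRegular (A ⧸ Ideal.ofList (rs.take c)) rs[c] := by
      have h2 := hw.regular_mod_prev c hcl
      refine (LinearEquiv.isSMulRegular_congr (Submodule.quotEquivOfEq _ _ ?_) _).1 h2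
      rw [smul_eq_mul, Ideal.mul_top]
    exact solve (a := fun j => L A j (killed (Ideal.ofList (rs.take c)) E)) (c := c) (d := rs.length) (by omega)
      (fun j => (h1 j).symm.trans (L_step hf (Ideal.ofList (rs.take c)) rs[c] (hm _ (List.getElem_mem hcl)) hreg j)) i

include hf in
theorem L_hull [LocCoh.IsGorensteinLocalRing A] (d : ℕ) (hd : ringKrullDim A = d) (i : ℕ) :
    L A i E = expect 0 d i := by
  obtain ⟨N, hN⟩ := (Goren.isGorensteinLocalRing_iff A).1 inferInstance
  obtain ⟨rs, hw, hm, hd', -, -⟩ := Goren.structure_of_resVanish N A fun i hi => hN i (by omega)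
  obtain rfl : d = rs.length := by exact_mod_cast hd.symm.trans hd'
  have hJ : Ideal.ofList rs ≠ ⊤ := fun h => (maximalIdeal.isMaximal A).ne_top
    (top_le_iff.1 (h ▸ Ideal.span_le.2 fun r hr => hm r hr))
  haveI : Nontrivial (A ⧸ Ideal.ofList rs) := Ideal.Quotient.nontrivial_iff.2 hJ
  haveI : IsLocalRing (A ⧸ Ideal.ofList rs) :=
    IsLocalRing.of_surjective' (Ideal.Quotient.mk _) Ideal.Quotient.mk_surjective
  have hd0 : ringKrullDim (A ⧸ Ideal.ofList rs) = 0 := by
    have h := Goren.dim_quot_list _ A rs rfl hw hm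
    rw [hd] at h
    exact eq_zero_of_add_natCast h
  obtain ⟨e⟩ := exists_equiv_killed hf (Ideal.ofList rs) hd0
    ((Goren.gorenstein_iff_socSimple_quot A rs hw hm hd0).1 inferInstance)
  have hself : ∀ j, L A j A = ((0 : ℕ).choose j : ℕ∞) := fun j => by
    cases j with
    | zero => rw [L_self_zero]; rfl
    | succ j => rw [L_flat]; rfl
  have hbase : ∀ j, L A j (killed (Ideal.ofList rs) E) = expect rs.length rs.length j := fun j => by
    rw [← L_equiv e j, ← L_equiv (Submodule.quotEquivOfEq (Ideal.ofList rs • (⊤ : Submodule A A)) (Ideal.ofList rs) (by rw [smul_eq_mul, Ideal.mul_top])) j,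
      L_quot rs A 0 hm hw hself j, zero_add, expect, if_pos (by omega), Nat.add_sub_cancel]
  have h := L_killed hf rs hm hw hbase rs.length le_rfl i
  rw [Nat.sub_self, List.take_zero] at h
  rw [← h]
  refine (L_equiv (LinearEquiv.ofTop _ ?_) i).symm
  rw [eq_top_iff]
  intro e _
  rw [Submodule.mem_torsionBySet_iff]
  rintro ⟨r, hr⟩
  rw [SetLike.mem_coe, Ideal.ofList_nil] at hr
  show r • e = 0
  rw [(Ideal.mem_bot).1 hr, zero_smul]

end Hull

end Groth.Agent.GorTor
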